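import Cfsg.Agent.H472.ComRed
import Cfsg.Agent.H16.NunLarge
import Cfsg.Agent.FastGrp
import Cfsg.Agent.Prune
set_option linter.all false
prune_inst 0x7f00000000000000000000000000000000000000000000000000000000000000000000000000000000000000000000000000000000000000000000000000000000000000000000000000000000000000003fffffffffffffffffffffffffffbeffbdffffffff
open scoped Cfsg.Agent.FastGrp

/-!
# S3842, S4094, S4095: an element which is central modulo `O_p` in all proper subgroups containing it (helper509)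

`Ctx p L x` : `G = L⟨x⟩`, `L` simple normal with trivial centralizer, all commutators `[x, g]` are trivial or of order
divisible by `p`, and `[x, D] ≤ O_p(D)` for all proper subgroups `D` containing `x`.

* `Ctx.of_minCtx` : the context of the strong form (S4094, S3842);
* `Ctx.mem_core` : a `p`-element of `⟨x⟩` lies in `O_p(D)`, `D` proper, `x ∈ D`;
* `Ctx.exists_sylow` : **`x` normalizes a Sylow `p`-subgroup** containing a given nontrivial `x`-invariant `p`-subgroup;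
* `Ctx.exists_W` : all proper overgroups of `N_G(T)` lie in `N_G(W)`, `W ≠ 1` a `p`-group;
* `Ctx.false_of_pair`, `Ctx.false_of_nun`, `Ctx.isStronglyEmbedded_of_se` (`p = 2`).
-/

set_option autoImplicit false

namespace Cfsg.Agent.H509.TwoFrame

open Subgroup Cfsg
open Cfsg.Agent.H472.ComRed (cm cm_eq cm_eq' cm_eq_one cm_mem cm_mem_left map_cm MinCtx)
open Cfsg.Agent.Lib.Cores

universe u

variable {G : Type u} [Group G]

/-- `O_p(D)` as a subgroup of `G`. -/
abbrev core (p : ℕ) (D : Subgroup G) : Subgroup G := (pCore p D).map D.subtype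

theorem core_le (p : ℕ) (D : Subgroup G) : core p D ≤ D := map_subtype_le _

theorem core_isPGroup (p : ℕ) (D : Subgroup G) : IsPGroup p (core p D) := (pCore_isPGroup p).map _

theorem core_conj {p : ℕ} {D : Subgroup G} {c d : G} (hc : c ∈ core p D) (hd : d ∈ D) : d * c * d⁻¹ ∈ core p D := by
  obtain ⟨c, hc, rfl⟩ := hc
  exact ⟨(⟨d, hd⟩ * c * ⟨d, hd⟩⁻¹ :), (pCore_normal_inst (G := D) p).conj_mem c hc _, rfl⟩

theorem le_core {p : ℕ} {D N : Subgroup G} (hND : N ≤ D) (hN : ∀ d ∈ D, ∀ n ∈ N, d * n * d⁻¹ ∈ N) (hp : IsPGroup p N) :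
    N ≤ core p D := by
  have h1 : (N.subgroupOf D).Normal := ⟨fun n hn d => hN d d.2 n hn⟩
  have h2 : IsPGroup p (N.subgroupOf D) := hp.comap_of_injective _ D.subtype_injective
  have h3 := le_pCore h1 h2
  intro n hn
  exact ⟨⟨n, hND hn⟩, h3 hn, rfl⟩

/-- The minimal situation for the weak hypothesis. -/
structure Ctx (p : ℕ) (L : Subgroup G) (x : G) : Prop where
  normal : L.Normal
  simple : IsSimpleGroup L
  nonab : ¬ IsMulCommutative L
  cent : centralizer (L : Set G) = ⊥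
  gen : L ⊔ zpowers x = ⊤
  ne : x ≠ 1
  bad : ∀ g, cm x g = 1 ∨ p ∣ orderOf (cm x g)
  ind : ∀ D : Subgroup G, x ∈ D → D ≠ ⊤ → ∀ d ∈ D, cm x d ∈ core p D

variable {p : ℕ} {L : Subgroup G} {x : G}

theorem cm_conj (x g h : G) : cm (h * x * h⁻¹) g = h * cm x (h⁻¹ * g * h) * h⁻¹ := by
  simp only [cm]; group

theorem core_map_conj (D : Subgroup G) (h : G) {c : G} (hc : c ∈ core p D) :
    h * c * h⁻¹ ∈ core p (D.map (MulAut.conj h).toMonoidHom) := by
  have h1 : (core p D).map (MulAut.conj h).toMonoidHom ≤ core p (D.map (MulAut.conj h).toMonoidHom) := by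
    apply le_core
    · exact map_mono (core_le p D)
    · rintro _ ⟨d, hd, rfl⟩ _ ⟨n, hn, rfl⟩
      refine ⟨d * n * d⁻¹, core_conj hn hd, ?_⟩
      show h * (d * n * d⁻¹) * h⁻¹ = h * d * h⁻¹ * (h * n * h⁻¹) * (h * d * h⁻¹)⁻¹
      group
    · exact (core_isPGroup p D).map _
  exact h1 ⟨c, hc, rfl⟩

/-- The `p`-part of an element of order divisible by `p`. -/
theorem exists_pow {x : G} [Finite G] [hp : Fact p.Prime] (hx : p ∣ orderOf x) :
    ∃ (n : ℤ) (k : ℕ), (x ^ n) ^ p ^ k = 1 ∧ x ^ n ≠ 1 := by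
  have h0 : orderOf x ≠ 0 := (orderOf_pos x).ne'
  obtain ⟨k, m, hm, he⟩ := Nat.exists_eq_pow_mul_and_not_dvd h0 p hp.out.ne_one
  refine ⟨(m : ℤ), k, ?_, ?_⟩
  · rw [zpow_natCast, ← pow_mul, mul_comm, ← he, pow_orderOf_eq_one]
  · rw [zpow_natCast]
    intro h
    exact hm (hx.trans (orderOf_dvd_of_pow_eq_one h))

namespace Ctx

theorem conj (C : Ctx p L x) (h : G) : Ctx p L (h * x * h⁻¹) where
  normal := C.normal
  simple := C.simple
  nonab := C.nonab
  cent := C.cent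
  gen := by
    have hL := C.normal
    rw [eq_top_iff]
    intro g _
    have h1 : h⁻¹ * g * h ∈ L ⊔ zpowers x := by rw [C.gen]; exact mem_top _
    obtain ⟨l, hl, k, hk, hlk⟩ := mem_sup_of_normal_left.1 h1
    obtain ⟨n, rfl⟩ := hk
    have h2 : g = (h * l * h⁻¹) * (h * x * h⁻¹) ^ n := by
      rw [conj_zpow]
      calc g = h * (h⁻¹ * g * h) * h⁻¹ := by group
        _ = h * (l * x ^ n) * h⁻¹ := by rw [← hlk]
        _ = _ := by group
    rw [h2]
    exact mul_mem (mem_sup_left (hL.conj_mem l hl h)) (mem_sup_right ⟨n, rfl⟩)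
  ne := fun h1 => C.ne (by simpa using h1)
  bad := fun g => by
    rw [cm_conj]
    rcases C.bad (h⁻¹ * g * h) with h1 | h1
    · left
      rw [h1]
      group
    · right
      have : h * cm x (h⁻¹ * g * h) * h⁻¹ = MulAut.conj h (cm x (h⁻¹ * g * h)) := rfl
      rw [this, MulEquiv.orderOf_eq]
      exact h1
  ind := fun D hx hD d hd => by
    rw [cm_conj]
    set D' := D.map (MulAut.conj h⁻¹).toMonoidHom with hD'
    have hback : D'.map (MulAut.conj h).toMonoidHom = D := by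
      rw [hD', Subgroup.map_map]
      have : (MulAut.conj h).toMonoidHom.comp (MulAut.conj h⁻¹).toMonoidHom = MonoidHom.id G := by
        ext y
        show h * (h⁻¹ * y * h⁻¹⁻¹) * h⁻¹ = y
        group
      rw [this, Subgroup.map_id]
    have hx' : x ∈ D' := ⟨h * x * h⁻¹, hx, by simp [mul_assoc]⟩
    have hD1 : D' ≠ ⊤ := by
      intro h1
      apply hD
      rw [← hback, h1]
      exact Subgroup.map_top_of_surjective _ (MulAut.conj h).surjective
    have hd' : h⁻¹ * d * h ∈ D' := ⟨d, hd, by simp [mul_assoc]⟩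
    have h2 := core_map_conj D' h (C.ind D' hx' hD1 _ hd')
    rwa [hback] at h2

/-- A nontrivial normal subgroup contains `L`. -/
theorem le_of_normal (C : Ctx p L x) {N : Subgroup G} (hN : N.Normal) (h : N ≠ ⊥) : L ≤ N := by
  have hL := C.normal
  have hs := C.simple
  rcases hs.eq_bot_or_eq_top_of_normal (N.subgroupOf L) inferInstance with h1 | h1
  · exfalso
    apply h
    rw [eq_bot_iff, ← C.cent]
    intro n hn
    rw [mem_centralizer_iff]
    intro l hl
    have h2 : l * n * l⁻¹ * n⁻¹ ∈ N := mul_mem (hN.conj_mem n hn l) (inv_mem hn)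
    have h3 : l * n * l⁻¹ * n⁻¹ ∈ L := by
      have := hL.conj_mem l⁻¹ (inv_mem hl) n
      have h4 := mul_mem hl this
      have e : l * (n * l⁻¹ * n⁻¹) = l * n * l⁻¹ * n⁻¹ := by group
      rwa [e] at h4
    have h4 : (⟨_, h3⟩ : L) ∈ N.subgroupOf L := h2
    rw [h1, mem_bot] at h4
    have h5 : l * n * l⁻¹ * n⁻¹ = 1 := congrArg Subtype.val h4
    calc l * n = (l * n * l⁻¹ * n⁻¹) * (n * l) := by group
      _ = n * l := by rw [h5, one_mul]
  · exact subgroupOf_eq_top.1 h1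

variable [Finite G] [hp : Fact p.Prime]

theorem eq_bot_of_normal (C : Ctx p L x) {q : ℕ} [hq : Fact q.Prime] {N : Subgroup G} (hN : N.Normal)
    (h : IsPGroup q N) : N = ⊥ := by
  by_contra h1
  have h2 : IsPGroup q L := h.to_le (C.le_of_normal hN h1)
  have hs := C.simple
  have := hs.toNontrivial
  have h2' := h2.center_nontrivial
  have h3 : center L = ⊤ := by
    rcases hs.eq_bot_or_eq_top_of_normal (center L) inferInstance with h | h
    · rw [h] at h2'
      exact absurd h2' (not_nontrivial _)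
    · exact h
  exact C.nonab ⟨⟨fun a b => (mem_center_iff.1 (show b ∈ center L by rw [h3]; trivial) a)⟩⟩

theorem normalizer_ne_top (C : Ctx p L x) {q : ℕ} [hq : Fact q.Prime] {R : Subgroup G} (hR : IsPGroup q R) (h : R ≠ ⊥) :
    normalizer (R : Set G) ≠ ⊤ := fun h1 => h (C.eq_bot_of_normal (normalizer_eq_top_iff.1 h1) hR)

/-- A `p`-element of `⟨x⟩` lies in `O_p(D)`. -/
theorem mem_core (C : Ctx p L x) {D : Subgroup G} (hx : x ∈ D) (hD : D ≠ ⊤) {n : ℤ} {k : ℕ} (hk : (x ^ n) ^ p ^ k = 1) :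
    x ^ n ∈ core p D := by
  set P := pCore p D with hP
  let y : D := ⟨x ^ n, zpow_mem hx n⟩
  have hcomm : ∀ d : D, (QuotientGroup.mk' P) ⟨x, hx⟩ * (QuotientGroup.mk' P) d =
      (QuotientGroup.mk' P) d * (QuotientGroup.mk' P) ⟨x, hx⟩ := by
    intro d
    obtain ⟨c, hc, hc'⟩ := C.ind D hx hD d d.2
    have h1 : c = cm (⟨x, hx⟩ : D) d := Subtype.ext hc'
    have h2 : (QuotientGroup.mk' P) (cm (⟨x, hx⟩ : D) d) = 1 := by
      rw [← h1]
      exact (QuotientGroup.eq_one_iff c).2 hc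
    rw [map_cm] at h2
    exact cm_eq_one.1 h2
  have hycomm : ∀ d : D, Commute ((QuotientGroup.mk' P) y) ((QuotientGroup.mk' P) d) := by
    intro d
    have h1 : (QuotientGroup.mk' P) y = ((QuotientGroup.mk' P) ⟨x, hx⟩) ^ n := by
      rw [← map_zpow]
      rfl
    rw [h1]
    exact Commute.zpow_left (hcomm d) n
  have h1 : (zpowers ((QuotientGroup.mk' P) y)).Normal := by
    refine ⟨fun z hz g => ?_⟩
    obtain ⟨d, rfl⟩ := QuotientGroup.mk'_surjective P g
    obtain ⟨m, rfl⟩ := hz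
    have h2 : (QuotientGroup.mk' P) d * ((QuotientGroup.mk' P) y) ^ m * ((QuotientGroup.mk' P) d)⁻¹ =
        ((QuotientGroup.mk' P) y) ^ m := by
      rw [((hycomm d).zpow_left m).symm.eq]
      group
    show (QuotientGroup.mk' P) d * ((QuotientGroup.mk' P) y) ^ m * ((QuotientGroup.mk' P) d)⁻¹ ∈ _
    rw [h2]
    exact ⟨m, rfl⟩
  have h2 : IsPGroup p (zpowers ((QuotientGroup.mk' P) y)) := by
    rintro ⟨z, m, rfl⟩
    refine ⟨k, ?_⟩
    apply Subtype.ext
    show (((QuotientGroup.mk' P) y) ^ m) ^ p ^ k = 1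
    have h3 : y ^ p ^ k = 1 := Subtype.ext hk
    have h4 : ((QuotientGroup.mk' P) y) ^ p ^ k = 1 := by rw [← map_pow, h3, map_one]
    rw [← zpow_natCast, ← zpow_mul, mul_comm, zpow_mul, zpow_natCast, h4, one_zpow]
  have h3 : zpowers ((QuotientGroup.mk' P) y) ≤ ⊥ := (le_pCore h1 h2).trans (pCore_quotient_pCore (G := D) p).le
  rw [le_bot_iff, zpowers_eq_bot] at h3
  have h4 : y ∈ P := (QuotientGroup.eq_one_iff y).1 h3
  exact ⟨y, h4, rfl⟩

/-- `x` normalizes every subgroup between `O_p(D)` and `D`. -/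
theorem mem_normalizer_of_le (C : Ctx p L x) {D : Subgroup G} (hx : x ∈ D) (hD : D ≠ ⊤) {R : Subgroup G} (hRD : R ≤ D)
    (hR : core p D ≤ R) : x ∈ normalizer (R : Set G) := by
  rw [← inv_mem_iff]
  apply mem_normalizer_fintype
  intro r hr
  have h1 := C.ind D hx hD r (hRD hr)
  have h2 : x⁻¹ * r * x⁻¹⁻¹ = r * (cm x r)⁻¹ := by
    simp only [cm]; group
  rw [h2]
  exact mul_mem hr (inv_mem (hR h1))

/-- **`x` normalizes a Sylow `p`-subgroup.** -/
theorem exists_sylow (C : Ctx p L x) {R : Subgroup G} (hR : IsPGroup p R) (hR1 : R ≠ ⊥) (hx : x ∈ normalizer (R : Set G)) :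
    ∃ T : Sylow p G, R ≤ T ∧ x ∈ normalizer ((T : Subgroup G) : Set G) := by
  -- a maximal `x`-invariant `p`-subgroup
  obtain ⟨Q, hQ⟩ : ∃ Q : Subgroup G, Maximal (fun Q : Subgroup G => IsPGroup p Q ∧ R ≤ Q ∧ x ∈ normalizer (Q : Set G)) Q := by
    have hfin : (Set.univ : Set (Subgroup G)).Finite := Set.toFinite _
    exact (hfin.subset (Set.subset_univ {Q : Subgroup G | IsPGroup p Q ∧ R ≤ Q ∧ x ∈ normalizer (Q : Set G)})).exists_maximal
      ⟨R, hR, le_rfl, hx⟩
  obtain ⟨⟨hQp, hRQ, hxQ⟩, hmax⟩ := hQ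
  have hQ1 : Q ≠ ⊥ := fun h => hR1 (le_bot_iff.1 (h ▸ hRQ))
  set D := normalizer (Q : Set G) with hD
  have hDt : D ≠ ⊤ := C.normalizer_ne_top hQp hQ1
  -- the Sylow subgroups of `D`
  have key : ∀ P : Sylow p D, (P : Subgroup D).map D.subtype ≤ Q := by
    intro P
    set P' := (P : Subgroup D).map D.subtype with hP'
    have hcore : core p D ≤ P' := map_mono (pCore_le_sylow P)
    have hQcore : Q ≤ core p D := le_core le_normalizer (fun d hd n hn => (mem_normalizer_iff.1 hd n).1 hn) hQp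
    have hxP : x ∈ normalizer (P' : Set G) := C.mem_normalizer_of_le hxQ hDt (map_subtype_le _) hcore
    have hP'p : IsPGroup p P' := P.isPGroup'.map _
    exact hmax ⟨hP'p, hRQ.trans (hQcore.trans hcore), hxP⟩ (hQcore.trans hcore)
  -- so `Q` is a Sylow subgroup of `G`
  obtain ⟨T, hT⟩ := hQp.exists_le_sylow
  suffices h : (T : Subgroup G) ≤ Q by
    have h1 : Q = (T : Subgroup G) := le_antisymm hT h
    exact ⟨T, hRQ.trans hT, h1 ▸ hxQ⟩
  by_contra hne
  have hlt : Q.subgroupOf T < ⊤ := by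
    refine lt_top_iff_ne_top.2 fun h => hne (subgroupOf_eq_top.1 h)
  have hnil : Group.IsNilpotent (T : Subgroup G) := T.isPGroup'.isNilpotent
  have h1 := Group.normalizerCondition_of_isNilpotent (Q.subgroupOf T) hlt
  obtain ⟨t, ht, htQ⟩ := SetLike.exists_of_lt h1
  -- `t` normalizes `Q`
  have h2 : (t : G) ∈ D := by
    rw [hD, mem_normalizer_iff]
    intro q
    constructor
    · intro hq
      have := (mem_normalizer_iff.1 ht ⟨q, hT hq⟩).1 hq
      exact this
    · intro hq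
      have h3 : q ∈ (T : Subgroup G) := by
        have h4 := mul_mem (mul_mem (inv_mem t.2) (hT hq)) t.2
        have e : (t : G)⁻¹ * ((t : G) * q * (t : G)⁻¹) * t = q := by group
        rwa [e] at h4
      exact (mem_normalizer_iff.1 ht ⟨q, h3⟩).2 hq
  -- the subgroup `Q⟨t⟩` of `D` is a `p`-group
  have h3 : IsPGroup p ((Q ⊔ zpowers (t : G) : Subgroup G)) :=
    T.isPGroup'.to_le (sup_le hT (zpowers_le.2 t.2))
  have h4 : Q ⊔ zpowers (t : G) ≤ D := sup_le le_normalizer (zpowers_le.2 h2)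
  obtain ⟨P₂, hP₂⟩ := (h3.comap_of_injective D.subtype D.subtype_injective).exists_le_sylow
  apply htQ
  rw [mem_subgroupOf]
  apply key P₂
  exact ⟨⟨t, h2⟩, hP₂ (show (t : G) ∈ Q ⊔ zpowers (t : G) from mem_sup_right (mem_zpowers _)), rfl⟩

theorem zpow_conj (g : G) (n : ℤ) : (g * x * g⁻¹) ^ n = g * x ^ n * g⁻¹ := by
  rw [conj_zpow]

theorem exists_conj (C : Ctx p L x) {n : ℤ} {k : ℕ} (hk : (x ^ n) ^ p ^ k = 1) (hn : x ^ n ≠ 1) (T₀ : Sylow p G) :
    ∃ g : G, g * x * g⁻¹ ∈ normalizer ((T₀ : Subgroup G) : Set G) := by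
  have hR : IsPGroup p (zpowers (x ^ n)) := by
    rintro ⟨z, m, rfl⟩
    refine ⟨k, Subtype.ext ?_⟩
    show ((x ^ n) ^ m) ^ p ^ k = 1
    rw [← zpow_natCast, ← zpow_mul, mul_comm, zpow_mul, zpow_natCast, hk, one_zpow]
  have hR1 : zpowers (x ^ n) ≠ ⊥ := by rwa [Ne, zpowers_eq_bot]
  have hx : x ∈ normalizer ((zpowers (x ^ n) : Subgroup G) : Set G) := by
    apply mem_normalizer_fintype
    rintro _ ⟨m, rfl⟩
    refine ⟨m, ?_⟩
    show (x ^ n) ^ m = x * (x ^ n) ^ m * x⁻¹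
    have h1 : Commute x ((x ^ n) ^ m) := ((Commute.refl x).zpow_right n).zpow_right m
    rw [h1.eq]
    group
  obtain ⟨T, -, hT⟩ := C.exists_sylow hR hR1 hx
  obtain ⟨g, hg⟩ := MulAction.exists_smul_eq G T T₀
  refine ⟨g, ?_⟩
  have h1 : (T₀ : Subgroup G) = (T : Subgroup G).map (MulAut.conj g).toMonoidHom := by
    rw [← hg]; rfl
  rw [h1]
  apply mem_normalizer_fintype
  rintro _ ⟨t, ht, rfl⟩
  refine ⟨x * t * x⁻¹, (mem_normalizer_iff.1 hT t).1 ht, ?_⟩
  show g * (x * t * x⁻¹) * g⁻¹ = g * x * g⁻¹ * (g * t * g⁻¹) * (g * x * g⁻¹)⁻¹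
  group

/-- A conjugate of `x` lies in the overgroup `D` of the normalizer of a Sylow `p`-subgroup. -/
theorem exists_local (C : Ctx p L x) {n : ℤ} {k : ℕ} (hk : (x ^ n) ^ p ^ k = 1) (hn : x ^ n ≠ 1) {T₀ : Sylow p G}
    {D : Subgroup G} (hD : normalizer ((T₀ : Subgroup G) : Set G) ≤ D) :
    ∃ y : G, IsConj x y ∧ Ctx p L y ∧ y ∈ D ∧ (y ^ n) ^ p ^ k = 1 ∧ y ^ n ≠ 1 := by
  obtain ⟨g, hg⟩ := C.exists_conj hk hn T₀
  refine ⟨g * x * g⁻¹, isConj_iff.2 ⟨g, rfl⟩, C.conj g, hD hg, ?_, ?_⟩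
  · rw [zpow_conj, conj_pow, hk]
    group
  · rw [zpow_conj]
    intro h
    exact hn (by simpa using h)

theorem core_le_sylow {T₀ : Sylow p G} {D : Subgroup G} (hD : (T₀ : Subgroup G) ≤ D) : core p D ≤ (T₀ : Subgroup G) := by
  rintro _ ⟨c, hc, rfl⟩
  have h1 := pCore_le_sylow (T₀.subtype hD) hc
  exact h1

/-- **All proper overgroups of `N_G(T₀)` normalize one nontrivial `p`-group `W`.** -/
theorem exists_W (C : Ctx p L x) {n : ℤ} {k : ℕ} (hk : (x ^ n) ^ p ^ k = 1) (hn : x ^ n ≠ 1) (T₀ : Sylow p G) :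
    ∃ W : Subgroup G, IsPGroup p W ∧ W ≠ ⊥ ∧ normalizer ((T₀ : Subgroup G) : Set G) ≤ normalizer (W : Set G) ∧
      ∀ D : Subgroup G, D ≠ ⊤ → normalizer ((T₀ : Subgroup G) : Set G) ≤ D → W ≤ core p D ∧ D ≤ normalizer (W : Set G) := by
  set N := normalizer ((T₀ : Subgroup G) : Set G) with hN
  set W : Subgroup G := closure {w : G | ∃ g : G, w = (g * x * g⁻¹) ^ n ∧ g * x * g⁻¹ ∈ N} with hW
  obtain ⟨g, hg⟩ := C.exists_conj hk hn T₀
  have hgn : (g * x * g⁻¹) ^ n ≠ 1 := by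
    rw [zpow_conj]
    intro h
    exact hn (by simpa using h)
  have hgk : ∀ g : G, ((g * x * g⁻¹) ^ n) ^ p ^ k = 1 := fun g => by
    rw [zpow_conj, conj_pow, hk]
    group
  have hgW : (g * x * g⁻¹) ^ n ∈ W := subset_closure ⟨g, rfl, hg⟩
  have hmain : ∀ D : Subgroup G, D ≠ ⊤ → N ≤ D → W ≤ core p D ∧ D ≤ normalizer (W : Set G) := by
    intro D hD hND
    have hT : (T₀ : Subgroup G) ≤ D := le_normalizer.trans hND
    have hc : core p D ≤ (T₀ : Subgroup G) := core_le_sylow hT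
    have hyN : ∀ g : G, g * x * g⁻¹ ∈ D → g * x * g⁻¹ ∈ N := fun g hg =>
      (C.conj g).mem_normalizer_of_le hg hD hT hc
    constructor
    · rw [hW, closure_le]
      rintro _ ⟨g, rfl, hg⟩
      exact (C.conj g).mem_core (hND hg) hD (hgk g)
    · intro d hd
      apply mem_normalizer_fintype
      have h1 : W ≤ W.comap (MulAut.conj d).toMonoidHom := by
        conv_lhs => rw [hW]
        rw [closure_le]
        rintro _ ⟨g, rfl, hg⟩
        show d * (g * x * g⁻¹) ^ n * d⁻¹ ∈ W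
        have e : d * g * x * (d * g)⁻¹ = d * (g * x * g⁻¹) * d⁻¹ := by group
        refine subset_closure ⟨d * g, ?_, ?_⟩
        · rw [e]
          exact (zpow_conj (x := g * x * g⁻¹) d n).symm
        · apply hyN
          rw [e]
          exact mul_mem (mul_mem hd (hND hg)) (inv_mem hd)
      intro w hw
      exact h1 hw
  have hT1 : (T₀ : Subgroup G) ≠ ⊥ := by
    intro h
    have h1 : IsPGroup p (zpowers ((g * x * g⁻¹) ^ n)) := by
      rintro ⟨z, m, rfl⟩
      refine ⟨k, Subtype.ext ?_⟩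
      show (((g * x * g⁻¹) ^ n) ^ m) ^ p ^ k = 1
      rw [← zpow_natCast, ← zpow_mul, mul_comm, zpow_mul, zpow_natCast, hgk, one_zpow]
    obtain ⟨Q, hQ⟩ := h1.exists_le_sylow
    have h2 : Nat.card Q = Nat.card T₀ := Nat.card_congr (Sylow.equiv Q T₀).toEquiv
    have h3 : Nat.card T₀ = 1 := by
      have : Nat.card (T₀ : Subgroup G) = 1 := by rw [h, card_bot]
      exact this
    rw [h3] at h2
    have h4 : (Q : Subgroup G) = ⊥ := by
      rw [← Subgroup.card_eq_one]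
      exact h2
    have h5 := hQ (mem_zpowers _)
    have h6 : (g * x * g⁻¹) ^ n ∈ (Q : Subgroup G) := h5
    rw [h4, mem_bot] at h6
    exact hgn h6
  have hNt : N ≠ ⊤ := C.normalizer_ne_top T₀.isPGroup' hT1
  have h1 := hmain N hNt le_rfl
  refine ⟨W, (core_isPGroup p N).to_le h1.1, ?_, h1.2, hmain⟩
  intro h
  rw [h, mem_bot] at hgW
  exact hgn hgW

/-- `O_p(D) ≠ 1` for every proper overgroup of `N_G(T₀)`. -/
theorem core_ne_bot (C : Ctx p L x) {n : ℤ} {k : ℕ} (hk : (x ^ n) ^ p ^ k = 1) (hn : x ^ n ≠ 1) {T₀ : Sylow p G}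
    {D : Subgroup G} (hD : normalizer ((T₀ : Subgroup G) : Set G) ≤ D) (ht : D ≠ ⊤) : core p D ≠ ⊥ := by
  obtain ⟨W, -, hW1, -, h⟩ := C.exists_W hk hn T₀
  intro h1
  exact hW1 (le_bot_iff.1 (h1 ▸ (h D ht hD).1))

end Ctx

section Two

variable [Finite G]

open Cfsg.Agent.UniqLoc

instance fact_two : Fact (Nat.Prime 2) := ⟨Nat.prime_two⟩

end Two

end Cfsg.Agent.H509.TwoFrame
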