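import Cfsg.Agent.H516.OddFrame
import Cfsg.Agent.S0200
import Cfsg.Agent.S2968
import Cfsg.Agent.H472.ComRed
import Cfsg.Agent.S0924
import Cfsg.Agent.S0925
import Cfsg.Agent.S0911
import Cfsg.Agent.H652.Four.Crit
import Cfsg.Agent.Characters.ClassMul
import Cfsg.Agent.S0876
import Cfsg.Agent.H648.Loc.Value_m3
import Cfsg.Agent.FastGrp
import Cfsg.Agent.Prune
set_option linter.all false

section
prune_inst 0x7f00000000000000000000000000000000000000000000000000000000000000000000000000000000000000000000000000000000000000000000000000000000000000000000000000000000000000003fffffffffffffffffffffffffffbeffbdfbfeffff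

-- part: H509/Weak
section
set_option linter.all false
open scoped Cfsg.Agent.FastGrp

/-!
# S4095 at the prime 2: the frame of the sporadic rows (helper509)

* `Base L` : `L` is simple with trivial center, automorphisms of odd order and squares of automorphisms are inner, the
  Z*-theorem at odd primes in `L`, the rows at 2 for the smaller simple groups;
* `Wk a` : `Base L` and a nontrivial automorphism `a` all of whose commutators `(a s)⁻¹ * s` are trivial or of even order;
* `Wk.le_of_inv` : the proper `a`-invariant subgroups with `O_2 = 1` are fixed by `a`;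
* `Wk.centralizer_le` : `C_L(y) ≤ C_L(a)` if `a y = y` and `O_2(C_L(y)) = 1`;
* `Wk.card_le` : `|Q| ≤ |C_L(a)|` for the subgroups `Q` of odd order;
* `Wk.fix_of_odd`, `Wk.le_of_odd` : invariant subgroups of odd order are fixed;
* `Wk.sq_ne_one` : `a * a ≠ 1`;
* `Wk.not_zpowers` : **no `w` of odd prime order with `O_2(C_L(w)) = 1` is a power of `a`**;
* `Wk.exists_of_not_two` : if `a` is not of 2-power order there is `w` of odd prime order in `⟨a⟩`, and then
  `C_L(a) ≤ C_L(w)`;
* `FactA L`, `Wk.two_of_factA` : `a` is of 2-power order if every element `w` of odd prime order satisfies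
  `O_2(C_L(w)) = 1` or `|C_L(w)| < |Q|`, `Q` a fixed subgroup of odd order;
* `Wk.false_of_fix` : **if `a` is of 2-power order, no `y ≠ 1` with `a y = y` and `O_2(C_L(y)) = 1`**.
-/

set_option autoImplicit false
set_option linter.unusedSectionVars false

namespace Cfsg.Agent.H509.Weak

open Subgroup Cfsg Cfsg.Agent.H516
open scoped commutatorElement Pointwise

universe u v

/-- The Z*-theorem for the odd primes in `L`. -/
def ZS (L : Type u) [Group L] : Prop :=
  ∀ (q : ℕ) [Fact q.Prime], q ≠ 2 → ∀ (S : Sylow q L) (v : L), v ∈ (S : Subgroup L) →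
    (∀ g : L, g * v * g⁻¹ ∈ (S : Subgroup L) → g * v * g⁻¹ = v) → InZStar q v

/-- What is used of a simple group `L` (all sporadic groups and the Tits group have it, given the induction
hypothesis). -/
structure Base (L : Type u) [Group L] : Prop where
  simple : IsSimpleGroup L
  center : center L = ⊥
  oi : ∀ a : MulAut L, Odd (orderOf a) → ∃ g : L, a = MulAut.conj g
  sq : ∀ a : MulAut L, ∃ g : L, a * a = MulAut.conj g
  zs : ZS L
  ih : IH 2 L

/-- **The situation to be contradicted.** -/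
structure Wk {L : Type u} [Group L] (a : MulAut L) : Prop extends Base L where
  bad : Bad 2 a
  ne : a ≠ 1

/-- First fact about a sporadic group: a subgroup `Q` of odd order such that every element `w` of odd prime order
satisfies `O_2(C(w)) = 1` or `|C(w)| < |Q|`. -/
def FactA (L : Type u) [Group L] : Prop :=
  ∃ Q : Subgroup L, Odd (Nat.card Q) ∧ ∀ w : L, (orderOf w).Prime → orderOf w ≠ 2 →
    pCore 2 ↥(centralizer ({w} : Set L)) = ⊥ ∨ Nat.card (centralizer ({w} : Set L)) < Nat.card Q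

theorem pCore_equiv {p : ℕ} {A B : Type*} [Group A] [Group B] (e : A ≃* B) (h : pCore p A = ⊥) : pCore p B = ⊥ := by
  have h1 : (pCore p A).map e.toMonoidHom = pCore p B := by
    apply le_antisymm
    · refine Lib.Cores.le_pCore ?_ ((Lib.Cores.pCore_isPGroup (G := A) p).map _)
      exact (Lib.Cores.pCore_normal (G := A) p).map _ e.surjective
    · intro b hb
      have h2 : (pCore p B).map e.symm.toMonoidHom ≤ pCore p A := by
        refine Lib.Cores.le_pCore ?_ ((Lib.Cores.pCore_isPGroup (G := B) p).map _)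
        exact (Lib.Cores.pCore_normal (G := B) p).map _ e.symm.surjective
      exact ⟨e.symm b, h2 ⟨b, hb, rfl⟩, e.apply_symm_apply b⟩
  rw [← h1, h, Subgroup.map_bot]

/-- the centralizers of `y` and `β y` are isomorphic -/
noncomputable def centEquiv {L : Type*} [Group L] (β : MulAut L) (y : L) :
    ↥(centralizer ({y} : Set L)) ≃* ↥(centralizer ({β y} : Set L)) :=
  (β.subgroupMap (centralizer ({y} : Set L))).trans (MulEquiv.subgroupCongr (by
    ext g
    rw [mem_centralizer_singleton_iff]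
    constructor
    · rintro ⟨s, hs, rfl⟩
      have h1 := mem_centralizer_singleton_iff.1 hs
      change β s * β y = β y * β s
      rw [← map_mul, ← map_mul, h1]
    · intro h
      refine ⟨β.symm g, ?_, β.apply_symm_apply g⟩
      change β.symm g ∈ centralizer ({y} : Set L)
      rw [mem_centralizer_singleton_iff]
      apply β.injective
      rw [map_mul, map_mul, β.apply_symm_apply]
      exact h))

section

variable {L : Type u} [Group L] [Finite L] {a : MulAut L}

theorem pow_inj_conj (hc : Subgroup.center L = ⊥) {v w : L} {m : ℕ} (h : MulAut.conj w = MulAut.conj v ^ m) : w = v ^ m := by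
  rw [← map_pow] at h
  exact conj_injective hc h

end

namespace Wk

variable {L : Type u} [Group L] [Finite L] {a : MulAut L} (W : Wk a)

include W

theorem centralizer_le {y : L} (hy1 : y ≠ 1) (hy : a y = y) (hO : pCore 2 ↥(centralizer ({y} : Set L)) = ⊥) :
    centralizer ({y} : Set L) ≤ fixedSubgroup a := W.bad.centralizer_le Nat.prime_two W.ih W.center hy1 hy hO

theorem card_le {Q : Subgroup L} (hQ : Odd (Nat.card Q)) : Nat.card Q ≤ Nat.card (fixedSubgroup a) :=
  W.bad.card_le (fun h => (Nat.not_even_iff_odd.2 hQ) (even_iff_two_dvd.2 h))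

theorem fix_of_odd {s : L} (h : Odd (orderOf ((a s)⁻¹ * s))) : a s = s :=
  W.bad.fix fun h1 => (Nat.not_even_iff_odd.2 h) (even_iff_two_dvd.2 h1)

theorem no_pgroup {N : Subgroup (MulAut L)} (hN : N.Normal) (h2 : IsPGroup 2 N) : N = ⊥ := by
  have hs := W.simple
  rw [eq_bot_iff]
  intro n hn
  -- `[n, conj s] ∈ N ∩ Inn L`
  have h1 : ∀ s : L, MulAut.conj (n s * s⁻¹) ∈ N := by
    intro s
    have h2 : MulAut.conj (n s * s⁻¹) = n * (MulAut.conj s * n⁻¹ * (MulAut.conj s)⁻¹) := by
      rw [map_mul, map_inv, ← aut_conj]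
      group
    rw [h2]
    exact mul_mem hn (hN.conj_mem _ (inv_mem hn) _)
  have h3 : N.comap MulAut.conj = ⊥ := by
    have h4 : (N.comap (MulAut.conj : L →* MulAut L)).Normal := hN.comap _
    rcases IsSimpleGroup.eq_bot_or_eq_top_of_normal _ h4 with h5 | h5
    · exact h5
    · exfalso
      have h6 : IsPGroup 2 (⊤ : Subgroup L) := by
        rw [← h5]
        exact h2.comap_of_injective _ (conj_injective W.center)
      have h7 : IsPGroup 2 L := fun g => by
        obtain ⟨k, hk⟩ := h6 ⟨g, mem_top g⟩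
        exact ⟨k, congrArg Subtype.val hk⟩
      have hf2 : Fact (Nat.Prime 2) := ⟨Nat.prime_two⟩
      have h8 := h7.center_nontrivial (G := L)
      rw [Subgroup.nontrivial_iff_ne_bot] at h8
      exact h8 W.center
  rw [mem_bot]
  ext s
  have h4 : n s * s⁻¹ ∈ N.comap (MulAut.conj : L →* MulAut L) := h1 s
  rw [h3, mem_bot, mul_inv_eq_one] at h4
  exact h4

/-- **`a` is not an involution** (Baer–Suzuki). -/
theorem sq_ne_one : a * a ≠ 1 := by
  intro h
  have ha : orderOf a = 2 := orderOf_eq_prime (by rw [pow_two]; exact h) W.ne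
  obtain ⟨g, hg1, hgo, hg⟩ := Cfsg.Agent.S0200.result a ha (fun N hN hN2 haN => by
    rw [W.no_pgroup hN hN2, mem_bot] at haN
    exact W.ne haN)
  obtain ⟨s, rfl⟩ := W.oi g hgo
  rw [aut_conj, ← map_inv] at hg
  have h1 : a s = s⁻¹ := conj_injective W.center hg
  rw [orderOf_injective _ (conj_injective W.center)] at hgo
  have h2 : a s = s := by
    apply W.fix_of_odd
    rw [h1, inv_inv]
    have h3 : orderOf (s * s) ∣ orderOf s := by
      rw [← pow_two]
      exact orderOf_pow_dvd 2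
    exact hgo.of_dvd_nat h3
  rw [h1] at h2
  have h3 : s * s = 1 := by
    nth_rewrite 1 [← h2]
    rw [inv_mul_cancel]
  have h4 : orderOf s ∣ 2 := orderOf_dvd_of_pow_eq_one (by rw [pow_two]; exact h3)
  apply hg1
  rcases (Nat.dvd_prime Nat.prime_two).1 h4 with h5 | h5
  · rw [orderOf_eq_one_iff.1 h5, map_one]
  · rw [h5] at hgo
    exact absurd hgo (by decide)

/-- **Odd powers.** -/
theorem not_zpowers {w : L} (hw : (orderOf w).Prime) (hw2 : orderOf w ≠ 2) (hp : MulAut.conj w ∈ zpowers a)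
    (hO : pCore 2 ↥(centralizer ({w} : Set L)) = ⊥) : False := by
  have hc := W.center
  have hs := W.simple
  set q := orderOf w with hq
  have hqf : Fact q.Prime := ⟨hw⟩
  have hw1 : w ≠ 1 := by
    intro h
    rw [h, orderOf_one] at hq
    exact hw.one_lt.ne' hq
  have hFC : fixedSubgroup a ≤ centralizer ({w} : Set L) := fixed_le_centralizer hp
  have haw : a w = w := conj_mem_fixed_of_zpowers hp hc
  have hCF := W.centralizer_le hw1 haw hO
  have hCe : centralizer ({w} : Set L) = fixedSubgroup a := le_antisymm hCF hFC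
  -- the `q`-part of `a`
  obtain ⟨k, m, hm, hk⟩ := Nat.exists_eq_pow_mul_and_not_dvd (orderOf_pos a).ne' q hw.ne_one
  have hm0 : m ≠ 0 := by
    rintro rfl
    exact hm (dvd_zero q)
  have hom : orderOf (a ^ m) = q ^ k := by
    rw [orderOf_pow_of_dvd hm0 (by rw [hk]; exact dvd_mul_left _ _), hk, Nat.mul_div_cancel _ (Nat.pos_of_ne_zero hm0)]
  have hqodd : Odd q := hw.odd_of_ne_two hw2
  obtain ⟨v, hv⟩ := W.oi (a ^ m) (by rw [hom]; exact hqodd.pow)
  have hvo : orderOf v = q ^ k := by rw [← hom, hv, orderOf_injective _ (conj_injective hc)]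
  -- `w` is a power of `v`
  obtain ⟨j, hj⟩ : ∃ j : ℕ, a ^ j = MulAut.conj w := by
    have h1 : MulAut.conj w ∈ Submonoid.powers a := mem_powers_iff_mem_zpowers.2 hp
    exact h1
  have hmj : m ∣ j := by
    have h1 : a ^ (j * q) = 1 := by
      rw [pow_mul, hj, ← map_pow, pow_orderOf_eq_one, map_one]
    have h2 : orderOf a ∣ j * q := orderOf_dvd_of_pow_eq_one h1
    have h3 : m ∣ j * q := (Dvd.intro_left _ hk.symm).trans h2
    exact (((Nat.Prime.coprime_iff_not_dvd hw).2 hm).symm).dvd_of_dvd_mul_right h3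
  obtain ⟨j', rfl⟩ := hmj
  have hwv : w = v ^ j' := by
    rw [pow_mul, hv] at hj
    exact pow_inj_conj hc hj.symm
  have hvfix : ∀ g : L, a g = g → g * v = v * g := by
    intro g hg
    have h1 : (a ^ m) g = g := by
      have h2 : a ∈ MulAction.stabilizer (MulAut L) g := hg
      exact pow_mem h2 m
    rw [hv, MulAut.conj_apply, mul_inv_eq_iff_eq_mul] at h1
    exact h1.symm
  -- `v` is isolated
  have hiso : Cfsg.IsIsolated v := by
    intro g hg
    -- `v₁ = g v g⁻¹` commutes with `v`, so with `w`, so it is fixed by `a`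
    have hgw : (g * v * g⁻¹) * w = w * (g * v * g⁻¹) := by
      have h1 : Commute (g * v * g⁻¹) v := by
        first
          | exact hg
          | exact hg.symm
      rw [hwv]
      exact h1.pow_right j'
    have h1 : g * v * g⁻¹ ∈ fixedSubgroup a := by
      rw [← hCe]
      exact mem_centralizer_singleton_iff.2 hgw
    have h2 : a (g * w * g⁻¹) = g * w * g⁻¹ := by
      have h3 : g * w * g⁻¹ = (g * v * g⁻¹) ^ j' := by
        rw [hwv, conj_pow]
      rw [h3, map_pow]
      have h4 : a (g * v * g⁻¹) = g * v * g⁻¹ := h1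
      rw [h4]
    have hO' : pCore 2 ↥(centralizer ({g * w * g⁻¹} : Set L)) = ⊥ :=
      pCore_equiv (centEquiv (MulAut.conj g) w) hO
    have hgw1 : g * w * g⁻¹ ≠ 1 := by
      intro h3
      apply hw1
      have h4 : g * w = g := by rw [mul_inv_eq_one] at h3; exact h3
      exact mul_left_cancel (a := g) (by rw [h4, mul_one])
    have h3 : centralizer ({g * w * g⁻¹} : Set L) ≤ centralizer ({w} : Set L) := by
      rw [hCe]
      exact W.centralizer_le hgw1 h2 hO'
    have h4 : centralizer ({g * w * g⁻¹} : Set L) = centralizer ({w} : Set L) :=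
      eq_of_le_of_card_ge h3 (Nat.card_congr (centEquiv (MulAut.conj g) w).toEquiv).le
    -- `c = (a g)⁻¹ g` centralizes `C(w)`
    have h5 : ∀ s ∈ centralizer ({w} : Set L), s * ((a g⁻¹)⁻¹ * g⁻¹) = (a g⁻¹)⁻¹ * g⁻¹ * s := by
      intro s hs
      have h6 : a s = s := hCF hs
      have h7 : g⁻¹ * s * g ∈ centralizer ({w} : Set L) := by
        rw [← h4] at hs
        rw [mem_centralizer_singleton_iff] at hs ⊢
        calc g⁻¹ * s * g * w = g⁻¹ * (s * (g * w * g⁻¹)) * g := by group
          _ = g⁻¹ * (g * w * g⁻¹ * s) * g := by rw [hs]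
          _ = w * (g⁻¹ * s * g) := by group
      have h8 : a (g⁻¹ * s * g) = g⁻¹ * s * g := hCF h7
      have h9 : a g = (a g⁻¹)⁻¹ := by rw [map_inv, inv_inv]
      rw [map_mul, map_mul, h6, h9] at h8
      calc s * ((a g⁻¹)⁻¹ * g⁻¹) = (a g⁻¹)⁻¹ * ((a g⁻¹) * s * (a g⁻¹)⁻¹) * g⁻¹ := by group
        _ = (a g⁻¹)⁻¹ * (g⁻¹ * s * g) * g⁻¹ := by rw [h8]
        _ = (a g⁻¹)⁻¹ * g⁻¹ * s := by group
    have h6 : (a g⁻¹)⁻¹ * g⁻¹ ∈ centralizer ({w} : Set L) := by
      rw [mem_centralizer_singleton_iff]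
      exact (h5 w (mem_centralizer_singleton_iff.2 rfl)).symm
    -- it is a central element of `C(w)`, so has odd order
    have h7 : Odd (orderOf ((a g⁻¹)⁻¹ * g⁻¹)) := by
      by_contra hcon
      rw [Nat.not_odd_iff_even] at hcon
      set c := (a g⁻¹)⁻¹ * g⁻¹ with hcdef
      set t : ↥(centralizer ({w} : Set L)) := ⟨c ^ (orderOf c / 2), pow_mem h6 _⟩ with ht
      have hoc := orderOf_pos c
      have h8 : orderOf t = 2 := by
        rw [← Subgroup.orderOf_coe]
        change orderOf (c ^ (orderOf c / 2)) = 2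
        have h9 : orderOf c / 2 ∣ orderOf c := Nat.div_dvd_of_dvd hcon.two_dvd
        have h10 : orderOf c / 2 ≠ 0 := by
          obtain ⟨n, hn⟩ := hcon.two_dvd
          omega
        rw [orderOf_pow_of_dvd h10 h9]
        exact Nat.div_div_self hcon.two_dvd hoc.ne'
      have h9 : t ∈ Subgroup.center ↥(centralizer ({w} : Set L)) := by
        rw [mem_center_iff]
        intro s
        apply Subtype.ext
        change (s : L) * c ^ (orderOf c / 2) = c ^ (orderOf c / 2) * s
        have h10 : Commute (s : L) c := h5 s s.2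
        exact h10.pow_right _
      have h10 : zpowers t ≤ pCore 2 ↥(centralizer ({w} : Set L)) := by
        refine Lib.Cores.le_pCore ?_ ?_
        · refine ⟨fun z hz s => ?_⟩
          have h11 : z ∈ Subgroup.center ↥(centralizer ({w} : Set L)) := by
            obtain ⟨i, rfl⟩ := hz
            exact zpow_mem h9 i
          rw [mem_center_iff] at h11
          have h12 : s * z * s⁻¹ = z := by rw [h11 s, mul_inv_cancel_right]
          rwa [h12]
        · exact isPGroup_zpowers (n := 1) (by rw [pow_one, ← h8]; exact pow_orderOf_eq_one t)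
      rw [hO] at h10
      have h11 : t = 1 := mem_bot.1 (h10 (mem_zpowers t))
      rw [h11, orderOf_one] at h8
      norm_num at h8
    have h8 : a g⁻¹ = g⁻¹ := W.fix_of_odd h7
    have h9 := hvfix _ h8
    -- `g⁻¹ v = v g⁻¹`
    have h10 : g * v * g⁻¹ = v := by
      rw [mul_assoc, ← h9]
      group
    exact h10
  obtain ⟨P, hP⟩ := (isPGroup_zpowers (p := q) (n := k) (x := v) (by rw [← hvo]; exact pow_orderOf_eq_one v)).exists_le_sylow
  have hvP : v ∈ (P : Subgroup L) := hP (mem_zpowers v)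
  have h1 := (Cfsg.Agent.S2968.result P v hvP ⟨k, hvo⟩ hiso).1
  have h2 : InZStar q v := by
    refine W.zs q hw2 P v hvP fun g hg => ?_
    have h3 := mem_centralizer_iff.1 (mem_inf.1 h1).2 _ hg
    apply hiso g
    first
      | exact h3
      | exact h3.symm
  have h3 : pPrimeCore q L = ⊥ := by
    have h4 : (pPrimeCore q L).Normal := inferInstance
    rcases IsSimpleGroup.eq_bot_or_eq_top_of_normal _ h4 with h5 | h5
    · exact h5
    · exfalso
      have h6 := Lib.Cores.pPrimeCore_coprime (G := L) q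
      rw [h5, Subgroup.card_top] at h6
      have h7 : q ∣ Nat.card L := by rw [hq]; exact orderOf_dvd_natCard w
      exact hw.one_lt.ne' (Nat.eq_one_of_dvd_coprimes h6 h7 dvd_rfl)
  have h4 : v ∈ Subgroup.center L := by
    rw [mem_center_iff]
    intro g
    have h5 := h2 g
    rw [h3, mem_bot, mul_inv_eq_one] at h5
    rw [mul_inv_eq_iff_eq_mul] at h5
    exact h5
  rw [hc, mem_bot] at h4
  apply hw1
  rw [hwv, h4, one_pow]

/-- If `a` is not of 2-power order, there is `w` of odd prime order in `⟨a⟩`. -/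
theorem exists_of_not_two (h : ¬ ∃ n : ℕ, a ^ 2 ^ n = 1) : ∃ w : L, (orderOf w).Prime ∧ orderOf w ≠ 2 ∧
    MulAut.conj w ∈ zpowers a ∧ a w = w ∧ fixedSubgroup a ≤ centralizer ({w} : Set L) := by
  obtain ⟨n, m, hm, hn⟩ := Nat.exists_eq_pow_mul_and_not_dvd (orderOf_pos a).ne' 2 (by norm_num)
  have hm1 : m ≠ 1 := by
    rintro rfl
    apply h
    refine ⟨n, ?_⟩
    rw [mul_one] at hn
    rw [← hn]
    exact pow_orderOf_eq_one a
  obtain ⟨q, hq, hqm⟩ := Nat.exists_prime_and_dvd hm1
  have hq2 : q ≠ 2 := by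
    rintro rfl
    exact hm hqm
  obtain ⟨c, rfl⟩ := hqm
  have hc0 : c ≠ 0 := by
    rintro rfl
    rw [mul_zero, mul_zero] at hn
    exact (orderOf_pos a).ne' hn
  have ho : orderOf (a ^ (2 ^ n * c)) = q := by
    rw [orderOf_pow_of_dvd (mul_ne_zero (pow_ne_zero _ (by norm_num)) hc0) (by rw [hn]; exact ⟨q, by ring⟩), hn]
    refine Nat.div_eq_of_eq_mul_left (Nat.pos_of_ne_zero (mul_ne_zero (pow_ne_zero _ (by norm_num)) hc0)) (by ring)
  obtain ⟨b, hb⟩ := W.oi _ (by rw [ho]; exact hq.odd_of_ne_two hq2)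
  have hbo : orderOf b = q := by rw [← ho, hb, orderOf_injective _ (conj_injective W.center)]
  have hp : MulAut.conj b ∈ zpowers a := by
    rw [← hb]
    exact pow_mem (mem_zpowers a) _
  exact ⟨b, by rw [hbo]; exact hq, by rw [hbo]; exact hq2, hp, conj_mem_fixed_of_zpowers hp W.center,
    fixed_le_centralizer hp⟩

/-- **`a` is of 2-power order.** -/
theorem two_of_factA (h : FactA L) : ∃ n : ℕ, a ^ 2 ^ n = 1 := by
  by_contra hcon
  obtain ⟨w, hw, hw2, hp, -, hle⟩ := W.exists_of_not_two hcon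
  obtain ⟨Q, hQ, hall⟩ := h
  rcases hall w hw hw2 with h1 | h1
  · exact W.not_zpowers hw hw2 hp h1
  · have h2 := W.card_le hQ
    have h3 := Subgroup.card_le_of_le hle
    omega

/-- **If `a` is of 2-power order, it fixes no `y ≠ 1` with `O_2(C_L(y)) = 1`.** -/
theorem false_of_fix {n : ℕ} (ha : a ^ 2 ^ n = 1) {y : L} (hy1 : y ≠ 1) (hy : a y = y)
    (hO : pCore 2 ↥(centralizer ({y} : Set L)) = ⊥) : False := by
  have hc := W.center
  have hCF := W.centralizer_le hy1 hy hO
  obtain ⟨s, hs⟩ := W.sq a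
  have h1 : ∀ c ∈ centralizer ({y} : Set L), c * s = s * c := by
    intro c hcy
    have h2 : a c = c := hCF hcy
    have h3 : (a * a) c = c := by
      change a (a c) = c
      rw [h2, h2]
    rw [hs, MulAut.conj_apply, mul_inv_eq_iff_eq_mul] at h3
    exact h3.symm
  have h2 : s ∈ centralizer ({y} : Set L) := by
    rw [mem_centralizer_singleton_iff]
    exact (h1 y (mem_centralizer_singleton_iff.2 rfl)).symm
  have h3 : s ^ 2 ^ n = 1 := by
    apply conj_injective hc
    rw [map_pow, ← hs, map_one, ← pow_two, ← pow_mul, mul_comm, pow_mul, ha, one_pow]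
  have h4 : zpowers (⟨s, h2⟩ : ↥(centralizer ({y} : Set L))) ≤ pCore 2 ↥(centralizer ({y} : Set L)) := by
    refine Lib.Cores.le_pCore ?_ (isPGroup_zpowers (n := n) (Subtype.ext h3))
    refine ⟨fun z hz c => ?_⟩
    obtain ⟨i, rfl⟩ := hz
    have h5 : Commute c (⟨s, h2⟩ : ↥(centralizer ({y} : Set L))) := Subtype.ext (h1 c c.2)
    have h6 : Commute c ((⟨s, h2⟩ : ↥(centralizer ({y} : Set L))) ^ i) := h5.zpow_right i
    have h7 : c * (⟨s, h2⟩ : ↥(centralizer ({y} : Set L))) ^ i * c⁻¹ = (⟨s, h2⟩ : ↥(centralizer ({y} : Set L))) ^ i := by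
      rw [h6.eq, mul_inv_cancel_right]
    exact ⟨i, h7.symm⟩
  rw [hO] at h4
  have h5 : (⟨s, h2⟩ : ↥(centralizer ({y} : Set L))) = 1 := mem_bot.1 (h4 (mem_zpowers _))
  have h6 : s = 1 := congrArg Subtype.val h5
  rw [h6, map_one] at hs
  exact W.sq_ne_one hs

end Wk

end Cfsg.Agent.H509.Weak
end

-- part: H509/WeakBlock
section
set_option linter.all false
open scoped Cfsg.Agent.FastGrp

-- part: H509/BadBlock
section
/-!
# Elements all of whose commutators are trivial or `p`-singular meet all `p`-blocks (helper509)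

Let `x` be an element of the finite group `G` such that every commutator `[x, g]` is trivial or has order divisible by `p`.

* `sum_block` : `∑_{χ ∈ B} |χ(x)|² = (|C(x)| / |G|) ∑_{χ ∈ B} χ(1)²` for every `p`-block `B`;
* `exists_ne_zero` : every `p`-block contains `χ` with `χ(x) ≠ 0`;
* `exists_commute` : if the class sum of `y` is not nilpotent modulo `p` (`NN M (cl y)`), the `p`-part of `x` commutes with
  a conjugate of `y`.
-/

set_option autoImplicit false
set_option linter.unusedSectionVars false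

open Cfsg
open scoped ComplexConjugate

namespace Cfsg.Agent.H509.BadBlock

open Cfsg.Agent.H472.ComRed (cm)
open Cfsg.Agent.Blocks.LocalRing
open Cfsg.Agent.Blocks
open Cfsg.Agent.Characters.Core
open Cfsg.Agent.H652.Four

universe u

variable {G : Type u} [Group G] [Finite G] {p : ℕ} {M : Ideal AlgInt} {x : G}

/-- No element of order prime to `p` is a nontrivial product `x₁⁻¹ x₂` of conjugates of `x`. -/
theorem sum_eq_zero (hbad : ∀ g : G, cm x g = 1 ∨ p ∣ orderOf (cm x g)) [Fintype (IrrCharacter G)] {g : G} (hg : g ≠ 1)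
    (hgp : ¬ p ∣ orderOf g) :
    ∑ χ : IrrCharacter G, (χ : G → ℂ) x⁻¹ * (χ : G → ℂ) x * conj ((χ : G → ℂ) g) / (χ : G → ℂ) 1 = 0 := by
  have h1 := Characters.ClassMul.card_class_mul x⁻¹ x g
  have h2 : Nat.card {q : G × G // IsConj x⁻¹ q.1 ∧ IsConj x q.2 ∧ q.1 * q.2 = g} = 0 := by
    rw [Nat.card_eq_zero]
    left
    refine ⟨?_⟩
    rintro ⟨⟨a, b⟩, ha, hb, hab⟩
    obtain ⟨c, hc⟩ := isConj_iff.1 ha
    obtain ⟨d, hd⟩ := isConj_iff.1 hb
    -- `g = c x⁻¹ c⁻¹ d x d⁻¹` is conjugate to `cm x (d⁻¹ c)`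
    have e : g = c * cm x (d⁻¹ * c) * c⁻¹ := by
      have : g = a * b := hab.symm
      rw [this]
      show a * b = _
      rw [show a = c * x⁻¹ * c⁻¹ from hc.symm, show b = d * x * d⁻¹ from hd.symm]
      simp only [cm]
      group
    have ho : orderOf g = orderOf (cm x (d⁻¹ * c)) := by
      rw [e]
      exact MulEquiv.orderOf_eq (MulAut.conj c) _
    rcases hbad (d⁻¹ * c) with h3 | h3
    · apply hg
      rw [e, h3]
      group
    · exact hgp (ho ▸ h3)
  rw [h2, Nat.cast_zero] at h1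
  have hG : (Nat.card G : ℂ) ≠ 0 := by exact_mod_cast Nat.card_pos.ne'
  have hi : ∀ y : G, ((Subgroup.centralizer ({y} : Set G)).index : ℂ) ≠ 0 := fun y => by
    exact_mod_cast Subgroup.index_ne_zero_of_finite
  have h3 := h1.symm
  rcases mul_eq_zero.1 h3 with h4 | h4
  · exact absurd h4 (div_ne_zero (mul_ne_zero (hi _) (hi _)) hG)
  · exact h4

/-- The coefficients of the class function vanishing at the `p`-regular elements. -/
noncomputable def coeff (x : G) (ψ : IrrCharacter G) : ℂ :=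
  (ψ : G → ℂ) x⁻¹ * (ψ : G → ℂ) x / (ψ : G → ℂ) 1 -
    (Nat.card (Subgroup.centralizer ({x} : Set G)) : ℂ) / (Nat.card G : ℂ) * (ψ : G → ℂ) 1

theorem conj_one (ψ : IrrCharacter G) : conj ((ψ : G → ℂ) 1) = (ψ : G → ℂ) 1 := by
  rw [Basic.irr_one_eq_charDegree ψ.2, Complex.conj_natCast]

theorem sum_one (g : G) (hg : g ≠ 1) [Fintype (IrrCharacter G)] :
    ∑ ψ : IrrCharacter G, (ψ : G → ℂ) 1 * (ψ : G → ℂ) g = 0 := by
  classical
  have := Fintype.ofFinite G
  have h := S0876.sum_irr_mul_conj g (1 : G)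
  have h0 : Nat.card {y : G // y * g * y⁻¹ = 1} = 0 := by
    rw [Nat.card_eq_zero]
    left
    refine ⟨?_⟩
    rintro ⟨y, hy⟩
    apply hg
    rw [mul_inv_eq_one] at hy
    exact mul_left_cancel (a := y) (by rw [hy, mul_one])
  rw [h0, Nat.cast_zero] at h
  rw [← h]
  refine Finset.sum_congr rfl fun ψ _ => ?_
  rw [conj_one, mul_comm]

theorem sum_one_one [Fintype (IrrCharacter G)] :
    ∑ ψ : IrrCharacter G, (ψ : G → ℂ) 1 * (ψ : G → ℂ) 1 = (Nat.card G : ℂ) := by
  classical
  have := Fintype.ofFinite G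
  have h := S0876.sum_irr_mul_conj (1 : G) (1 : G)
  have h0 : Nat.card {y : G // y * 1 * y⁻¹ = 1} = Nat.card G := by
    refine Nat.card_congr ⟨fun y => y.1, fun y => ⟨y, by group⟩, fun _ => rfl, fun _ => rfl⟩
  rw [h0] at h
  rw [← h]
  refine Finset.sum_congr rfl fun ψ _ => ?_
  rw [conj_one]

theorem sum_x [Fintype (IrrCharacter G)] (x : G) :
    ∑ ψ : IrrCharacter G, (ψ : G → ℂ) x⁻¹ * (ψ : G → ℂ) x =
      (Nat.card (Subgroup.centralizer ({x} : Set G)) : ℂ) := by
  classical
  have := Fintype.ofFinite G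
  have h := S0876.sum_irr_mul_conj x x
  have h0 : Nat.card {y : G // y * x * y⁻¹ = x} = Nat.card (Subgroup.centralizer ({x} : Set G)) := by
    refine Nat.card_congr (Equiv.subtypeEquivRight fun y => ?_)
    rw [Subgroup.mem_centralizer_singleton_iff, mul_inv_eq_iff_eq_mul]
  rw [h0] at h
  rw [← h]
  refine Finset.sum_congr rfl fun ψ _ => ?_
  rw [isCharacter_apply_inv (isIrr_isCharacter ψ.2), mul_comm]

theorem theta_eq_zero (hbad : ∀ g : G, cm x g = 1 ∨ p ∣ orderOf (cm x g)) [Fintype (IrrCharacter G)] {g : G}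
    (hgp : ¬ p ∣ orderOf g) : ∑ ψ : IrrCharacter G, coeff x ψ * (ψ : G → ℂ) g = 0 := by
  have hG : (Nat.card G : ℂ) ≠ 0 := by exact_mod_cast Nat.card_pos.ne'
  by_cases hg : g = 1
  · subst hg
    have h1 : ∀ ψ : IrrCharacter G, coeff x ψ * (ψ : G → ℂ) 1 = (ψ : G → ℂ) x⁻¹ * (ψ : G → ℂ) x -
        (Nat.card (Subgroup.centralizer ({x} : Set G)) : ℂ) / (Nat.card G : ℂ) * ((ψ : G → ℂ) 1 * (ψ : G → ℂ) 1) := by
      intro ψ
      have h2 := isIrr_apply_one_ne_zero ψ.2
      rw [coeff, sub_mul, div_mul_cancel₀ _ h2, mul_assoc]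
    rw [Finset.sum_congr rfl fun ψ _ => h1 ψ, Finset.sum_sub_distrib, ← Finset.mul_sum, sum_one_one, sum_x,
      div_mul_cancel₀ _ hG, sub_self]
  · have hg' : g⁻¹ ≠ 1 := inv_ne_one.2 hg
    have hgp' : ¬ p ∣ orderOf g⁻¹ := by rwa [orderOf_inv]
    have h0 := sum_eq_zero hbad hg' hgp'
    have h1 : ∀ ψ : IrrCharacter G, coeff x ψ * (ψ : G → ℂ) g =
        (ψ : G → ℂ) x⁻¹ * (ψ : G → ℂ) x * conj ((ψ : G → ℂ) g⁻¹) / (ψ : G → ℂ) 1 -
        (Nat.card (Subgroup.centralizer ({x} : Set G)) : ℂ) / (Nat.card G : ℂ) * ((ψ : G → ℂ) 1 * (ψ : G → ℂ) g) := by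
      intro ψ
      rw [isCharacter_apply_inv (isIrr_isCharacter ψ.2) g, Complex.conj_conj, coeff]
      ring
    rw [Finset.sum_congr rfl fun ψ _ => h1 ψ, Finset.sum_sub_distrib, ← Finset.mul_sum, sum_one g hg, h0, mul_zero,
      sub_self]

theorem blockPart_eq [Fintype G] (b : Set (IrrCharacter G)) (θ : G → ℂ)
    (y : G) : blockPart b θ y = ∑ᶠ φ ∈ b, classInner θ (φ : G → ℂ) * (φ : G → ℂ) y := by
  unfold blockPart
  refine finsum_mem_congr rfl fun φ _ => ?_
  congr 1
  convert rfl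

/-- **The sum over a block.** -/
theorem sum_block (hM : IsPModular p M) (hbad : ∀ g : G, cm x g = 1 ∨ p ∣ orderOf (cm x g)) {B : Set (IrrCharacter G)}
    (hB : IsPBlock M B) :
    ∑ᶠ χ ∈ B, (χ : G → ℂ) x⁻¹ * (χ : G → ℂ) x =
      (Nat.card (Subgroup.centralizer ({x} : Set G)) : ℂ) / (Nat.card G : ℂ) *
        ∑ᶠ χ ∈ B, (χ : G → ℂ) 1 * (χ : G → ℂ) 1 := by
  classical
  have hp : Fact p.Prime := ⟨prime hM⟩
  have := Fintype.ofFinite G
  have := finite_irr (G := G)
  have := Fintype.ofFinite (IrrCharacter G)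
  let θ : G → ℂ := ∑ ψ : IrrCharacter G, coeff x ψ • (ψ : G → ℂ)
  have hθ : ∀ g : G, θ g = ∑ ψ : IrrCharacter G, coeff x ψ * (ψ : G → ℂ) g := by
    intro g
    simp only [θ, Finset.sum_apply, Pi.smul_apply, smul_eq_mul]
  have hθcl : IsClassFunction G θ := by
    intro g k
    rw [hθ, hθ]
    refine Finset.sum_congr rfl fun ψ _ => ?_
    rw [isIrr_isClassFunction ψ.2]
  have ho1 : orderOf (1 : G) = p ^ 0 := by rw [orderOf_one, pow_zero]
  have h2 := (S0925.result (G := G) p M hM).1 θ hθcl 1 ⟨0, ho1⟩ (fun u z hu hz => by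
    have hz1 : z = 1 := isConj_one_right.1 hz
    rw [hz1] at hu
    obtain ⟨y, hy, -, -, hy'⟩ := hu
    rw [one_mul] at hy
    rw [hθ]
    exact theta_eq_zero hbad (hy ▸ hy')) B hB 1 1 ⟨1, one_mul 1, Commute.refl 1, ⟨0, ho1⟩, by
      rw [orderOf_one]
      exact hp.out.one_lt.ne' ∘ Nat.dvd_one.1⟩ (IsConj.refl 1)
  rw [blockPart_eq] at h2
  have h3 : ∀ ψ : IrrCharacter G, classInner θ (ψ : G → ℂ) * (ψ : G → ℂ) 1 =
      (ψ : G → ℂ) x⁻¹ * (ψ : G → ℂ) x -
        (Nat.card (Subgroup.centralizer ({x} : Set G)) : ℂ) / (Nat.card G : ℂ) * ((ψ : G → ℂ) 1 * (ψ : G → ℂ) 1) := by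
    intro ψ
    have h4 := isIrr_apply_one_ne_zero ψ.2
    rw [classInner_sum_smul_irr, coeff, sub_mul, div_mul_cancel₀ _ h4, mul_assoc]
  rw [finsum_mem_eq_finite_toFinset_sum _ (Set.toFinite B)] at h2 ⊢
  rw [finsum_mem_eq_finite_toFinset_sum _ (Set.toFinite B)]
  rw [Finset.sum_congr rfl fun ψ _ => h3 ψ, Finset.sum_sub_distrib, ← Finset.mul_sum] at h2
  exact sub_eq_zero.1 h2

/-- Every block contains a character not vanishing at `x`. -/
theorem exists_ne_zero (hM : IsPModular p M) (hbad : ∀ g : G, cm x g = 1 ∨ p ∣ orderOf (cm x g))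
    {B : Set (IrrCharacter G)} (hB : IsPBlock M B) : ∃ χ ∈ B, (χ : G → ℂ) x ≠ 0 := by
  classical
  have hMp : M.IsPrime := isPrime hM
  have := finite_irr (G := G)
  by_contra hcon
  push Not at hcon
  have h1 := sum_block hM hbad hB
  have h2 : ∑ᶠ χ ∈ B, (χ : G → ℂ) x⁻¹ * (χ : G → ℂ) x = 0 := by
    rw [finsum_mem_eq_finite_toFinset_sum _ (Set.toFinite B)]
    refine Finset.sum_eq_zero fun χ hχ => ?_
    rw [hcon χ ((Set.Finite.mem_toFinset _).1 hχ), mul_zero]
  rw [h2] at h1
  have hG : (Nat.card G : ℂ) ≠ 0 := by exact_mod_cast Nat.card_pos.ne'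
  have hC : (Nat.card (Subgroup.centralizer ({x} : Set G)) : ℂ) ≠ 0 := by exact_mod_cast Nat.card_pos.ne'
  rcases mul_eq_zero.1 h1.symm with h3 | h3
  · exact div_ne_zero hC hG h3
  · rw [finsum_mem_eq_finite_toFinset_sum _ (Set.toFinite B)] at h3
    have h4 : ∀ χ : IrrCharacter G, (χ : G → ℂ) 1 * (χ : G → ℂ) 1 = ((charDegree (χ : G → ℂ) ^ 2 : ℕ) : ℂ) := by
      intro χ
      rw [Basic.irr_one_eq_charDegree χ.2]
      push_cast
      ring
    rw [Finset.sum_congr rfl fun χ _ => h4 χ, ← Nat.cast_sum, Nat.cast_eq_zero] at h3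
    obtain ⟨χ, hχ⟩ := Basic.isPBlock_nonempty hB
    have h5 := (Finset.sum_eq_zero_iff.1 h3) χ ((Set.Finite.mem_toFinset _).2 hχ)
    have h6 := Basic.charDegree_pos χ.2
    rw [pow_eq_zero_iff (by norm_num)] at h5
    omega

/-- **The `p`-part of `x` lies in a defect group of every block.** -/
theorem exists_defect (hM : IsPModular p M) (hbad : ∀ g : G, cm x g = 1 ∨ p ∣ orderOf (cm x g))
    {B : Set (IrrCharacter G)} (hB : IsPBlock M B) {u : G} (hu : IsPPart p x u) :
    ∃ D : Subgroup G, IsDefectGroup p M B D ∧ u ∈ D := by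
  have hp : Fact p.Prime := ⟨prime hM⟩
  have hMp : M.IsPrime := isPrime hM
  obtain ⟨χ, hχ, hx⟩ := exists_ne_zero hM hbad hB
  by_contra hcon
  push Not at hcon
  apply hx
  refine Cfsg.Agent.S0924.result p M hM χ x u hu fun D hD => hcon D ?_
  rwa [← Basic.isPBlock_eq_blockOf hB hχ] at hD

/-- **The `p`-part of `x` commutes with a conjugate of `y`** if the class of `y` is not nilpotent modulo `p`. -/
theorem exists_commute (hM : IsPModular p M) (hbad : ∀ g : G, cm x g = 1 ∨ p ∣ orderOf (cm x g)) {u y : G}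
    (hu : IsPPart p x u) (hy : NN M (cl y)) : ∃ c : G, Commute u (c * y * c⁻¹) := by
  have hp : Fact p.Prime := ⟨prime hM⟩
  have hMp : M.IsPrime := isPrime hM
  obtain ⟨χ, hχ⟩ := hy
  rw [om_cl χ.2] at hχ
  have hB : IsPBlock M (blockOf M (χ : G → ℂ)) := Basic.isPBlock_blockOf χ
  obtain ⟨D, ⟨g, hg, P, hD⟩, huD⟩ := exists_defect hM hbad hB hu
  obtain ⟨c, Q, hcQ⟩ := (Cfsg.Agent.S0911.result p M hM _ hB g hg P y).2 ⟨χ, Basic.mem_blockOf_self χ, hχ⟩
  rw [← hD] at hcQ
  have h1 : c * u * c⁻¹ ∈ (Q : Subgroup (Subgroup.centralizer ({y} : Set G))).map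
      (Subgroup.centralizer ({y} : Set G)).subtype := hcQ ⟨u, huD, rfl⟩
  obtain ⟨q, -, hq⟩ := h1
  have h2 : c * u * c⁻¹ * y = y * (c * u * c⁻¹) := by
    have h3 := Subgroup.mem_centralizer_singleton_iff.1 q.2
    have h4 : (q : G) = c * u * c⁻¹ := hq
    rwa [h4] at h3
  refine ⟨c⁻¹, ?_⟩
  show u * (c⁻¹ * y * c⁻¹⁻¹) = c⁻¹ * y * c⁻¹⁻¹ * u
  have h3 : u * (c⁻¹ * y * c) = c⁻¹ * (c * u * c⁻¹ * y) * c := by group
  rw [inv_inv, h3, h2]
  group

end Cfsg.Agent.H509.BadBlock
end

-- part: H509/WeakBlock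
section
/-!
# S4095 at the prime 2: rows from a 2-block (helper509)

* `Wk.exists_fix_of_nn` : if `Y ⊆ L` is invariant under all automorphisms and its indicator function is not nilpotent
  modulo 2, a bad automorphism of 2-power order fixes an element of `Y`;
* `FactB L`, `row_of_facts` : **the row from `FactA` and `FactB`**;
* `FactB.of_cl` : the case of one class.
-/

set_option autoImplicit false
set_option linter.unusedSectionVars false

namespace Cfsg.Agent.H509.Weak

open Subgroup Cfsg Cfsg.Agent.H516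
open Cfsg.Agent.H652.Four
open Cfsg.Agent.H472.ComRed (cm)
open Cfsg.Agent.Blocks.LocalRing
open Cfsg.Agent.Blocks
open Cfsg.Agent.Characters.Core

universe u

open Classical in
/-- the indicator function of a set -/
noncomputable def ind {G : Type*} (Y : Set G) : G → ℂ := fun g => if g ∈ Y then 1 else 0

theorem ind_pos {G : Type*} {Y : Set G} {g : G} (h : g ∈ Y) : ind Y g = 1 := if_pos h

theorem ind_neg {G : Type*} {Y : Set G} {g : G} (h : g ∉ Y) : ind Y g = 0 := if_neg h

/-- Second fact about a sporadic group: a set `Y` of nontrivial elements `y` with `O_2(C(y)) = 1`, invariant under the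
automorphisms, whose indicator function is not nilpotent modulo 2. -/
def FactB (L : Type u) [Group L] : Prop :=
  ∃ Y : Set L, (∀ β : MulAut L, ∀ y ∈ Y, β y ∈ Y) ∧
    (∀ y ∈ Y, y ≠ 1 ∧ pCore 2 ↥(centralizer ({y} : Set L)) = ⊥) ∧
    ∀ M : Ideal AlgInt, IsPModular 2 M → NN M (ind Y)

/-- The case of one class. -/
theorem FactB.of_cl {L : Type u} [Group L] {y : L} (hy : y ≠ 1) (hO : pCore 2 ↥(centralizer ({y} : Set L)) = ⊥)
    (hinv : ∀ β : MulAut L, IsConj y (β y)) (hN : ∀ M : Ideal AlgInt, IsPModular 2 M → NN M (cl y)) : FactB L := by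
  refine ⟨{z | IsConj y z}, ?_, ?_, ?_⟩
  · intro β z hz
    obtain ⟨c, hc⟩ := isConj_iff.1 hz
    refine (hinv β).trans (isConj_iff.2 ⟨β c, ?_⟩)
    rw [← hc, map_mul, map_mul, map_inv]
  · intro z hz
    obtain ⟨c, hc⟩ := isConj_iff.1 hz
    refine ⟨?_, ?_⟩
    · rintro rfl
      exact hy (isConj_one_left.1 hz)
    · rw [← hc]
      exact pCore_equiv (centEquiv (MulAut.conj c) y) hO
  · intro M hM
    have h : (ind {z | IsConj y z} : L → ℂ) = cl y := by
      ext z
      by_cases hz : IsConj y z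
      · rw [cl_pos hz]
        exact ind_pos hz
      · rw [cl_neg hz]
        exact ind_neg hz
    rw [h]
    exact hN M hM

section

variable {L : Type u} [Group L] [Finite L] {a : MulAut L}

/-- commutators in `Inn L ⟨a⟩` -/
theorem bad_cm (h : Bad 2 a) {g : MulAut L} (hg : g ∈ (MulAut.conj : L →* MulAut L).range ⊔ zpowers a)
    (hc : Subgroup.center L = ⊥) : cm a g = 1 ∨ 2 ∣ orderOf (cm a g) := by
  have hn : ((MulAut.conj : L →* MulAut L).range).Normal := by
    refine ⟨?_⟩
    rintro _ ⟨s, rfl⟩ b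
    exact ⟨b s, (aut_conj b s).symm⟩
  obtain ⟨y, hy, z, hz, rfl⟩ := Subgroup.mem_sup_of_normal_left.1 hg
  obtain ⟨s, rfl⟩ := hy
  have hza : z * a = a * z := by
    obtain ⟨i, rfl⟩ := hz
    exact ((Commute.refl a).zpow_left i).eq
  have hza' : a * z⁻¹ = z⁻¹ * a := by
    have : Commute z a := hza
    exact (this.inv_left.symm).eq
  -- `cm a (conj s * z) = z⁻¹ (a⁻¹ conj(s)⁻¹ a conj s) z`
  have h1 : cm a (MulAut.conj s * z) = z⁻¹ * cm a (MulAut.conj s) * z := by
    simp only [cm]
    calc a⁻¹ * (MulAut.conj s * z)⁻¹ * a * (MulAut.conj s * z)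
        = (a⁻¹ * z⁻¹) * (MulAut.conj s)⁻¹ * a * MulAut.conj s * z := by group
      _ = (z⁻¹ * a⁻¹) * (MulAut.conj s)⁻¹ * a * MulAut.conj s * z := by
          rw [show a⁻¹ * z⁻¹ = z⁻¹ * a⁻¹ by rw [← mul_inv_rev, ← mul_inv_rev, hza]]
      _ = z⁻¹ * (a⁻¹ * (MulAut.conj s)⁻¹ * a * MulAut.conj s) * z := by group
  have h3 : cm a (MulAut.conj s) = MulAut.conj ((a⁻¹ s)⁻¹ * s) := by
    simp only [cm]
    have h4 : a⁻¹ * MulAut.conj s * a = MulAut.conj (a⁻¹ s) := by
      have := aut_conj a⁻¹ s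
      rwa [inv_inv] at this
    rw [map_mul, map_inv, ← h4]
    group
  have h5 : orderOf (cm a (MulAut.conj s * z)) = orderOf ((a⁻¹ s)⁻¹ * s) := by
    rw [h1, h3]
    have h6 : z⁻¹ * MulAut.conj ((a⁻¹ s)⁻¹ * s) * z = MulAut.conj z⁻¹ (MulAut.conj ((a⁻¹ s)⁻¹ * s)) := by
      rw [MulAut.conj_apply, inv_inv]
    rw [h6, MulEquiv.orderOf_eq, orderOf_injective _ (conj_injective hc)]
  set t := a⁻¹ s with ht
  have hs : s = a t := by
    rw [ht]
    exact (a.apply_symm_apply s).symm
  have h6 : t⁻¹ * s = ((a t)⁻¹ * t)⁻¹ := by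
    rw [hs, mul_inv_rev, inv_inv]
  rcases h t with h7 | h7
  · left
    rw [← orderOf_eq_one_iff, h5, h6, h7, inv_one, orderOf_one]
  · right
    rw [h5, h6, orderOf_inv]
    exact h7

/-- **A bad automorphism of 2-power order fixes an element of `Y`** (`Y` invariant under `Inn L ⟨a⟩`). -/
theorem Wk.exists_fix_of_nn' (W : Wk a) {n : ℕ} (ha : a ^ 2 ^ n = 1) {Y : Set L}
    (hY : ∀ β ∈ (MulAut.conj : L →* MulAut L).range ⊔ zpowers a, ∀ y ∈ Y, β y ∈ Y)
    {M : Ideal AlgInt} (hM : IsPModular 2 M) (hN : NN M (ind Y)) : ∃ y ∈ Y, a y = y := by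
  classical
  have hc := W.center
  have : Finite (MulAut L) := Finite.of_injective (fun f : MulAut L => (f : L → L)) DFunLike.coe_injective
  set K : Subgroup (MulAut L) := (MulAut.conj : L →* MulAut L).range ⊔ zpowers a with hK
  have hRK : (MulAut.conj : L →* MulAut L).range ≤ K := le_sup_left
  have haK : a ∈ K := (le_sup_right : zpowers a ≤ K) (mem_zpowers a)
  have hRn : ((MulAut.conj : L →* MulAut L).range).Normal := by
    refine ⟨?_⟩
    rintro _ ⟨s, rfl⟩ b
    exact ⟨b s, (aut_conj b s).symm⟩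
  set N : Subgroup K := ((MulAut.conj : L →* MulAut L).range).subgroupOf K with hNdef
  have hNn : N.Normal := hRn.subgroupOf K
  let f : L →* N :=
    { toFun := fun s => ⟨⟨MulAut.conj s, hRK ⟨s, rfl⟩⟩, ⟨s, rfl⟩⟩
      map_one' := Subtype.ext (Subtype.ext (map_one _))
      map_mul' := fun s t => Subtype.ext (Subtype.ext (map_mul _ s t)) }
  have hf : ∀ s : L, ((f s : K) : MulAut L) = MulAut.conj s := fun _ => rfl
  have hfb : Function.Bijective f := by
    constructor
    · intro s t hst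
      apply conj_injective hc
      rw [← hf, ← hf, hst]
    · rintro ⟨⟨k, hk⟩, hk'⟩
      obtain ⟨s, hs⟩ := hk'
      refine ⟨s, Subtype.ext (Subtype.ext ?_)⟩
      exact hs
  let e : L ≃* N := MulEquiv.ofBijective f hfb
  have he : ∀ s : L, ((e s : K) : MulAut L) = MulAut.conj s := fun _ => rfl
  -- the class function on `K`
  let F : K → ℂ := ind {k : K | ∃ y ∈ Y, (k : MulAut L) = MulAut.conj y}
  have hFc : ∀ g k : K, F (g * k * g⁻¹) = F k := by
    intro g k
    have hiff : g * k * g⁻¹ ∈ {k : K | ∃ y ∈ Y, (k : MulAut L) = MulAut.conj y} ↔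
        k ∈ {k : K | ∃ y ∈ Y, (k : MulAut L) = MulAut.conj y} := by
      constructor
      · rintro ⟨y, hy, hk⟩
        refine ⟨(g : MulAut L)⁻¹ y, hY _ (inv_mem g.2) _ hy, ?_⟩
        have h1 : (g : MulAut L) * k * (g : MulAut L)⁻¹ = MulAut.conj y := hk
        have h2 := aut_conj (g : MulAut L)⁻¹ y
        rw [← h2, ← h1]
        group
      · rintro ⟨y, hy, hk⟩
        refine ⟨(g : MulAut L) y, hY _ g.2 _ hy, ?_⟩
        change (g : MulAut L) * k * (g : MulAut L)⁻¹ = _
        rw [hk, aut_conj]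
    by_cases h : k ∈ {k : K | ∃ y ∈ Y, (k : MulAut L) = MulAut.conj y}
    · rw [show F k = 1 from ind_pos h, show F (g * k * g⁻¹) = 1 from ind_pos (hiff.2 h)]
    · rw [show F k = 0 from ind_neg h, show F (g * k * g⁻¹) = 0 from ind_neg (fun h' => h (hiff.1 h'))]
  have hFe : ∀ s : L, F (e s : K) = ind Y s := by
    intro s
    by_cases h : s ∈ Y
    · rw [ind_pos h]
      exact ind_pos ⟨s, h, he s⟩
    · rw [ind_neg h]
      apply ind_neg
      rintro ⟨y, hy, hs⟩
      rw [he] at hs
      exact h ((conj_injective hc hs) ▸ hy)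
  have hNF : NN M F := by
    refine NN.normal (N := N) hFc ?_ ?_
    · intro g hg
      apply ind_neg
      rintro ⟨y, -, hy⟩
      exact hg ⟨y, hy.symm⟩
    · have := Fintype.ofFinite N
      have := Fintype.ofFinite L
      refine NN.quot (Q := L) (φ := e.symm.toMonoidHom) e.symm.surjective (F' := ind Y) ?_ hN
      intro q
      rw [Finset.sum_eq_single (e q)]
      · exact hFe q
      · intro b hb hbq
        exfalso
        apply hbq
        have h1 : e.symm b = q := (Finset.mem_filter.1 hb).2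
        rw [← h1, e.apply_symm_apply]
      · intro h1
        exfalso
        apply h1
        rw [Finset.mem_filter]
        exact ⟨Finset.mem_univ _, e.symm_apply_apply q⟩
  -- one class
  obtain ⟨k, y, hyY, hky, hNk⟩ : ∃ k : K, ∃ y ∈ Y, (k : MulAut L) = MulAut.conj y ∧ NN M (cl k) := by
    obtain ⟨χ, hχ⟩ := hNF
    have := Fintype.ofFinite (ConjClasses K)
    rw [om_eq_sum_classes χ.2 hFc] at hχ
    by_contra hcon
    apply hχ
    refine memLocalIdeal_sum hM _ _ fun C _ => ?_
    by_cases h : Quotient.out C ∈ {k : K | ∃ y ∈ Y, (k : MulAut L) = MulAut.conj y}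
    · obtain ⟨y, hy, hk⟩ := h
      refine memLocalIdeal_mul_left hM ?_ ?_
      · rw [show F (Quotient.out C) = 1 from ind_pos ⟨y, hy, hk⟩]
        exact_mod_cast memLocalRing_natCast hM 1
      · by_contra h'
        exact hcon ⟨Quotient.out C, y, hy, hk, NN.of_value χ h'⟩
    · rw [show F (Quotient.out C) = 0 from ind_neg h, zero_mul]
      have h0 := (memLocalIdeal_natCast_iff hM (n := 0)).2 (dvd_zero 2)
      simpa using h0
  have hbad : ∀ g : K, cm (⟨a, haK⟩ : K) g = 1 ∨ 2 ∣ orderOf (cm (⟨a, haK⟩ : K) g) := by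
    intro g
    have h1 := bad_cm W.bad g.2 hc
    have h2 : ((cm (⟨a, haK⟩ : K) g : K) : MulAut L) = cm a (g : MulAut L) := rfl
    rcases h1 with h3 | h3
    · left
      exact Subtype.ext (h2.trans h3)
    · right
      rw [← Subgroup.orderOf_coe, h2]
      exact h3
  have hpp : IsPPart 2 (⟨a, haK⟩ : K) (⟨a, haK⟩ : K) := by
    refine ⟨1, mul_one _, Commute.one_right _, ?_, by rw [orderOf_one]; norm_num⟩
    have h1 : (⟨a, haK⟩ : K) ^ 2 ^ n = 1 := Subtype.ext ha
    obtain ⟨k, -, hk⟩ := (Nat.dvd_prime_pow Nat.prime_two).1 (orderOf_dvd_of_pow_eq_one h1)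
    exact ⟨k, hk⟩
  obtain ⟨c, hcc⟩ := BadBlock.exists_commute hM hbad hpp hNk
  refine ⟨(c : MulAut L) y, hY _ c.2 _ hyY, ?_⟩
  have h1 : a * ((c : MulAut L) * k * (c : MulAut L)⁻¹) = (c : MulAut L) * k * (c : MulAut L)⁻¹ * a :=
    congrArg Subtype.val hcc.eq
  rw [hky, aut_conj] at h1
  have h2 : a * MulAut.conj ((c : MulAut L) y) * a⁻¹ = MulAut.conj ((c : MulAut L) y) := by
    rw [h1, mul_inv_cancel_right]
  rw [aut_conj] at h2
  exact conj_injective hc h2

/-- **A bad automorphism of 2-power order fixes an element of `Y`.** -/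
theorem Wk.exists_fix_of_nn (W : Wk a) {n : ℕ} (ha : a ^ 2 ^ n = 1) {Y : Set L} (hY : ∀ β : MulAut L, ∀ y ∈ Y, β y ∈ Y)
    {M : Ideal AlgInt} (hM : IsPModular 2 M) (hN : NN M (ind Y)) : ∃ y ∈ Y, a y = y :=
  W.exists_fix_of_nn' ha (fun β _ => hY β) hM hN

/-- **The row at 2 from the two facts.** -/
theorem row_of_facts (B : Base L) (hA : FactA L) (hB : FactB L) : Row 2 L := by
  rw [row_iff]
  intro a ha
  by_contra hne
  have W : Wk a := { B with bad := ha, ne := hne }
  obtain ⟨n, hn⟩ := W.two_of_factA hA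
  obtain ⟨Y, hY, hYO, hYN⟩ := hB
  obtain ⟨M, hM⟩ := exists_two_modular
  obtain ⟨y, hy, hay⟩ := W.exists_fix_of_nn hn hY hM (hYN M hM)
  exact W.false_of_fix hn (hYO y hy).1 hay (hYO y hy).2

end

end Cfsg.Agent.H509.Weak
end

private theorem dce_bc1ac6dc3106 : _root_.True := by
  try have : _root_.True := by simp only [_root_.Cfsg.Agent.H509.BadBlock.coeff.eq_1]
  exact _root_.True.intro
end

-- part: H47/Wk/Count
section
set_option linter.all false
open scoped Cfsg.Agent.FastGrp

/-!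
# S4095 at the prime 2: rows by counting (helper47)

* `row_of_count` : **the row at 2 for `L` from a subgroup `Q` of odd order, if every element `w` of odd prime order
  satisfies `O_2(C(w)) = 1`, or its order belongs to a set `E` of exceptional primes and `|C(w)| < |Q|`, and the
  `{2} ∪ E`-part of `|L|` is smaller than `|Q|`** (no 2-blocks, no outer automorphisms);
* `pCore_eq_bot_of_card` : `O_2(C(w)) = 1` if `|C(w)| = 2 m`, `m` odd, and no involution of `C(w)` centralizes `C(w)`.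
-/

set_option autoImplicit false

namespace Cfsg.Agent.H47.Wk

open Subgroup Cfsg Cfsg.Agent.H516 Cfsg.Agent.H509.Weak

universe u

/-- **The row at 2 by counting.** -/
theorem row_of_count {L : Type u} [Group L] [Finite L] (B : Base L) (Q : Subgroup L) (hQ : Odd (Nat.card Q))
    (E : Set ℕ) (K N : ℕ) (hL : Nat.card L = K * N) (h2N : ¬ 2 ∣ N) (hEN : ∀ r ∈ E, ¬ r ∣ N) (hK0 : K ≠ 0)
    (hKQ : K < Nat.card Q)
    (hw : ∀ w : L, (orderOf w).Prime → orderOf w ≠ 2 →
      pCore 2 ↥(centralizer ({w} : Set L)) = ⊥ ∨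
        (orderOf w ∈ E ∧ Nat.card (centralizer ({w} : Set L)) < Nat.card Q)) : Row 2 L := by
  rw [row_iff]
  intro a ha
  by_contra hne
  have W : Wk a := { B with bad := ha, ne := hne }
  have hA : FactA L := ⟨Q, hQ, fun w h1 h2 => (hw w h1 h2).imp id And.right⟩
  obtain ⟨n, hn⟩ := W.two_of_factA hA
  have h1 := W.card_le hQ
  obtain ⟨d, hd⟩ : ∃ d, Nat.card (fixedSubgroup a) = d := ⟨_, rfl⟩
  have hprime : ∀ r : ℕ, r.Prime → r ∣ d → r = 2 ∨ r ∈ E := by
    intro r hr hrd
    have : Fact r.Prime := ⟨hr⟩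
    obtain ⟨y, hy⟩ := exists_prime_orderOf_dvd_card' (G := fixedSubgroup a) r (by rw [hd]; exact hrd)
    have hyo : orderOf (y : L) = r := by rw [Subgroup.orderOf_coe, hy]
    by_cases hr2 : r = 2
    · exact Or.inl hr2
    right
    rcases hw y (by rw [hyo]; exact hr) (by rw [hyo]; exact hr2) with h2 | h2
    · exfalso
      refine W.false_of_fix hn (y := (y : L)) ?_ y.2 h2
      intro h3
      rw [h3, orderOf_one] at hyo
      exact hr.one_lt.ne hyo
    · rw [← hyo]
      exact h2.1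
  have hcop : Nat.Coprime d N := by
    apply Nat.Coprime.symm
    rw [Nat.coprime_iff_gcd_eq_one]
    by_contra hcon
    obtain ⟨r, hr, hrg⟩ := Nat.exists_prime_and_dvd hcon
    rcases hprime r hr (hrg.trans (Nat.gcd_dvd_right _ _)) with h2 | h2
    · rw [h2] at hrg
      exact h2N (hrg.trans (Nat.gcd_dvd_left _ _))
    · exact hEN r h2 (hrg.trans (Nat.gcd_dvd_left _ _))
  have h2 : d ∣ K * N := by
    rw [← hL, ← hd]
    exact Subgroup.card_subgroup_dvd_card _
  have h3 := Nat.le_of_dvd (Nat.pos_of_ne_zero hK0) (hcop.dvd_of_dvd_mul_right h2)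
  omega

/-- If `|H|` is odd then `O_2(H) = 1`. -/
theorem pCore_eq_bot_of_odd {H : Type*} [Group H] [Finite H] (h : Odd (Nat.card H)) : pCore 2 H = ⊥ := by
  have h1 := (Lib.Cores.pCore_isPGroup (G := H) 2)
  have : Fact (Nat.Prime 2) := ⟨Nat.prime_two⟩
  obtain ⟨n, hn⟩ := IsPGroup.iff_card.1 h1
  have h2 : 2 ^ n ∣ Nat.card H := by
    rw [← hn]
    exact Subgroup.card_subgroup_dvd_card _
  have h3 : n = 0 := by
    by_contra h0
    have h4 : 2 ∣ Nat.card H := (dvd_pow_self 2 h0).trans h2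
    exact (Nat.not_even_iff_odd.2 h) (even_iff_two_dvd.2 h4)
  rw [h3, pow_zero] at hn
  exact Subgroup.card_eq_one.1 hn

theorem pCore_map_le {A B : Type*} [Group A] [Group B] {p : ℕ} (f : A →* B) (hf : Function.Surjective f) :
    (pCore p A).map f ≤ pCore p B :=
  Lib.Cores.le_pCore ((Lib.Cores.pCore_normal (G := A) p).map f hf) ((Lib.Cores.pCore_isPGroup (G := A) p).map f)

/-- `O_2(H) = 1` if all involutions `t` of `H` have `|C_H(t)| = m` with `4 ∤ m`, and `H` has an element `a` of order `n`,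
`n ∤ m`. -/
theorem pCore_eq_bot_of_small {H : Type*} [Group H] [Finite H] {m n : ℕ} {a : H} (ha : orderOf a = n) (hn : ¬ n ∣ m)
    (hm : ¬ 4 ∣ m) (hc : ∀ t : H, orderOf t = 2 → Nat.card (centralizer ({t} : Set H)) = m) : pCore 2 H = ⊥ := by
  have h1 := (Lib.Cores.pCore_isPGroup (G := H) 2)
  have hN := (Lib.Cores.pCore_normal (G := H) 2)
  have : Fact (Nat.Prime 2) := ⟨Nat.prime_two⟩
  by_contra hcon
  have hnt : Nontrivial (pCore 2 H) := (Subgroup.nontrivial_iff_ne_bot _).2 hcon
  have hz := h1.center_nontrivial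
  -- a central involution of `O_2(H)`
  have hzp : IsPGroup 2 (center ↥(pCore 2 H)) := h1.to_subgroup _
  obtain ⟨k, hk⟩ := IsPGroup.iff_card.1 hzp
  have hk0 : k ≠ 0 := by
    rintro rfl
    have h2 : 1 < Nat.card (center ↥(pCore 2 H)) := Finite.one_lt_card
    rw [hk] at h2
    norm_num at h2
  obtain ⟨z, hzo⟩ := exists_prime_orderOf_dvd_card' (G := center ↥(pCore 2 H)) 2 (by rw [hk]; exact dvd_pow_self 2 hk0)
  set t : H := ((z : pCore 2 H) : H) with ht
  have hto : orderOf t = 2 := by rw [ht, Subgroup.orderOf_coe, Subgroup.orderOf_coe, hzo]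
  have hle : pCore 2 H ≤ centralizer ({t} : Set H) := by
    intro s hs
    rw [mem_centralizer_singleton_iff]
    exact congrArg Subtype.val (mem_center_iff.1 z.2 ⟨s, hs⟩)
  obtain ⟨j, hj⟩ := IsPGroup.iff_card.1 h1
  have h2 : 2 ^ j ∣ m := by
    rw [← hj, ← hc t hto]
    exact Subgroup.card_dvd_of_le hle
  have h3 : j = 1 := by
    have h4 : j ≠ 0 := by
      rintro rfl
      rw [pow_zero] at hj
      exact hcon (Subgroup.card_eq_one.1 hj)
    by_contra h5
    exact hm ((pow_dvd_pow 2 (show 2 ≤ j by omega)).trans h2)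
  have hcore : pCore 2 H = zpowers t := by
    symm
    apply Subgroup.eq_of_le_of_card_ge
    · rw [zpowers_le]
      exact (z : pCore 2 H).2
    · rw [hj, h3, Nat.card_zpowers, hto, pow_one]
  have h4 : a * t * a⁻¹ ∈ zpowers t := by
    rw [← hcore]
    exact hN.conj_mem t (z : pCore 2 H).2 a
  have h5 : a * t * a⁻¹ = t := by
    obtain ⟨i, hi⟩ := h4
    have hi' : t ^ i = a * t * a⁻¹ := hi
    rcases Int.even_or_odd i with h6 | h6
    · exfalso
      obtain ⟨c, rfl⟩ := h6
      have h7 : t ^ (c + c) = 1 := by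
        rw [← two_mul, zpow_mul]
        have : t ^ (2 : ℤ) = 1 := by
          have h8 := pow_orderOf_eq_one t
          rw [hto] at h8
          exact_mod_cast h8
        rw [this, one_zpow]
      rw [h7] at hi'
      have h8 : t = 1 := by
        have h9 : a * t = a := by
          rw [eq_comm, mul_inv_eq_one] at hi'
          exact hi'
        exact mul_eq_left.1 h9
      rw [h8, orderOf_one] at hto
      norm_num at hto
    · obtain ⟨c, rfl⟩ := h6
      rw [← hi', zpow_add, zpow_mul, zpow_one]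
      have : t ^ (2 : ℤ) = 1 := by
        have h8 := pow_orderOf_eq_one t
        rw [hto] at h8
        exact_mod_cast h8
      rw [this, one_zpow, one_mul]
  apply hn
  rw [← ha, ← hc t hto]
  have h6 : a ∈ centralizer ({t} : Set H) := mem_centralizer_singleton_iff.2 (mul_inv_eq_iff_eq_mul.1 h5)
  have h7 := orderOf_dvd_natCard (⟨a, h6⟩ : ↥(centralizer ({t} : Set H)))
  rwa [Subgroup.orderOf_mk] at h7

/-- centralizers in centralizers -/
theorem card_sub_eq {K : Type*} [Group K] {x : K} (t : ↥(centralizer ({x} : Set K))) :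
    Nat.card ↥(centralizer ({t} : Set ↥(centralizer ({x} : Set K)))) =
      Nat.card ↥(centralizer ({(t : K)} : Set K) ⊓ centralizer ({x} : Set K)) := by
  refine Nat.card_congr ⟨fun a => ⟨a.1, mem_centralizer_singleton_iff.2
      (congrArg Subtype.val (mem_centralizer_singleton_iff.1 a.2)), a.1.2⟩,
    fun a => ⟨⟨a.1, a.2.2⟩, mem_centralizer_singleton_iff.2 (Subtype.ext (mem_centralizer_singleton_iff.1 a.2.1))⟩,
    fun _ => rfl, fun _ => rfl⟩

end Cfsg.Agent.H47.Wk
end
end
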